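import Groth.Agent.H3CAlg.NagataFP
import Mathlib.RingTheory.FinitePresentation
import Mathlib.RingTheory.Flat.EquationalCriterion
import Mathlib.RingTheory.Flat.TorsionFree
import Mathlib.RingTheory.LocalRing.MaximalIdeal.Basic
import Mathlib.RingTheory.LocalRing.Module
import Mathlib.RingTheory.Valuation.ValuationRing
import Mathlib.LinearAlgebra.FreeModule.Basic
import Mathlib.RingTheory.Localization.BaseChange

/-! Flatness and finite presentation over a pullback of a valuation ring along a residue map. -/

set_option autoImplicit false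
set_option maxHeartbeats 1000000
universe u

open IsLocalRing

namespace Groth.Agent.H3CAlg.SemiVal

/-- `O → A` is the pullback of a valuation ring `V` of the residue field of `A`. -/
structure IsSemiVal (O A V : Type u) [CommRing O] [CommRing A] [IsLocalRing A] [CommRing V]
    [Algebra O A] (π : O →+* V) : Prop where
  inj : Function.Injective (algebraMap O A)
  max_mem : ∀ μ ∈ maximalIdeal A, ∃ o, algebraMap O A o = μ
  den : ∀ a : A, ∃ s o : O, IsUnit (algebraMap O A s) ∧ algebraMap O A s * a = algebraMap O A o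
  surj : Function.Surjective π
  ker : ∀ o, π o = 0 ↔ algebraMap O A o ∈ maximalIdeal A

variable {O A V : Type u} [CommRing O] [CommRing A] [IsLocalRing A] [CommRing V] [IsDomain V]
  [ValuationRing V] [Algebra O A] {π : O →+* V} (h : IsSemiVal O A V π)

include h

omit [IsDomain V] [ValuationRing V] in
theorem IsSemiVal.commonDen {κ : Type*} (t : Finset κ) (a : κ → A) :
    ∃ s : O, IsUnit (algebraMap O A s) ∧ ∀ k ∈ t, ∃ o, algebraMap O A s * a k = algebraMap O A o := by
  classical
  induction t using Finset.induction with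
  | empty => exact ⟨1, by simp, by simp⟩
  | insert k t _ ih =>
    obtain ⟨s, hs, hall⟩ := ih
    obtain ⟨s', o', hs', ho'⟩ := h.den (a k)
    refine ⟨s * s', by rw [map_mul]; exact hs.mul hs', fun l hl => ?_⟩
    rcases Finset.mem_insert.1 hl with rfl | hl
    · exact ⟨s * o', by rw [map_mul, map_mul, mul_assoc, ho']⟩
    · obtain ⟨o, ho⟩ := hall l hl
      exact ⟨s' * o, by rw [map_mul, map_mul, ← ho]; ring⟩

variable {C CA : Type u} [CommRing C] [CommRing CA] [Algebra O C] [Algebra A CA] [Algebra O CA]
  [IsScalarTower O A CA] (j : C →ₐ[O] CA) (hj : Function.Injective j)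
  (hjden : ∀ t : CA, ∃ s : O, IsUnit (algebraMap O A s) ∧ ∃ c, algebraMap O CA s * t = j c)

include hj hjden

omit [IsDomain V] [ValuationRing V] hj in
theorem exists_den_fin {k : ℕ} (t : Fin k → CA) :
    ∀ i, ∃ a : A, ∃ c, t i = a • j c := fun i => by
  obtain ⟨s, hs, c, hc⟩ := hjden (t i)
  refine ⟨↑hs.unit⁻¹, c, ?_⟩
  rw [← hc, IsScalarTower.algebraMap_apply O A CA, ← Algebra.smul_def, smul_smul,
    IsUnit.val_inv_mul, one_smul]

omit [IsDomain V] [ValuationRing V] in
theorem mem_map_ker_iff (c : C) :
    c ∈ (RingHom.ker π).map (algebraMap O C) ↔ j c ∈ maximalIdeal A • (⊤ : Submodule A CA) := by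
  constructor
  · intro hc
    induction hc using Submodule.span_induction with
    | mem x hx =>
      obtain ⟨o, ho, rfl⟩ := hx
      rw [AlgHom.commutes, IsScalarTower.algebraMap_apply O A CA, Algebra.algebraMap_eq_smul_one]
      exact Submodule.smul_mem_smul ((h.ker o).1 ho) Submodule.mem_top
    | zero => rw [map_zero]; exact zero_mem _
    | add x y _ _ hx hy => rw [map_add]; exact add_mem hx hy
    | smul r x _ hx =>
      rw [smul_eq_mul, map_mul]
      exact Submodule.smul_induction_on hx
        (fun μ hμ t _ => by rw [mul_smul_comm]; exact Submodule.smul_mem_smul hμ Submodule.mem_top)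
        (fun t t' ht ht' => by rw [mul_add]; exact add_mem ht ht')
  · intro hc
    suffices ∀ y ∈ maximalIdeal A • (⊤ : Submodule A CA),
        ∃ c' ∈ (RingHom.ker π).map (algebraMap O C), j c' = y by
      obtain ⟨c', hc', e⟩ := this _ hc
      rwa [← hj e]
    intro y hy
    refine Submodule.smul_induction_on hy (fun μ hμ t _ => ?_) ?_
    · obtain ⟨a, c', e⟩ := exists_den_fin h j hjden (fun _ : Fin 1 => t) 0
      obtain ⟨o, ho⟩ := h.max_mem (μ * a) (Ideal.mul_mem_right _ _ hμ)
      refine ⟨algebraMap O C o * c', Ideal.mul_mem_right _ _ (Ideal.mem_map_of_mem _ ?_), ?_⟩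
      · rw [RingHom.mem_ker, h.ker, ho]; exact Ideal.mul_mem_right _ _ hμ
      · rw [map_mul, AlgHom.commutes, IsScalarTower.algebraMap_apply O A CA, ho, ← Algebra.smul_def,
          show t = a • j c' from e, smul_smul]
    · rintro x y ⟨c1, h1, rfl⟩ ⟨c2, h2, rfl⟩
      exact ⟨c1 + c2, add_mem h1 h2, map_add _ _ _⟩

omit [IsDomain V] [ValuationRing V] in
/-- relations with entries in the maximal ideal are trivial -/
theorem trivial_of_max [Module.Flat A CA] {n : ℕ} (o : Fin n → O) (d : Fin n → C)
    (hd : ∀ i, j (d i) ∈ maximalIdeal A • (⊤ : Submodule A CA)) (h0 : ∑ i, o i • d i = 0) :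
    Module.IsTrivialRelation o d := by
  classical
  have hrep : ∀ i, ∃ (k : ℕ) (μ : Fin k → A) (z : Fin k → CA), (∀ l, μ l ∈ maximalIdeal A) ∧
      j (d i) = ∑ l, μ l • z l := fun i => by
    refine Submodule.smul_induction_on (hd i)
      (fun μ hμ t _ => ⟨1, fun _ => μ, fun _ => t, fun _ => hμ, by simp⟩) ?_
    rintro x y ⟨k1, μ1, z1, h1, rfl⟩ ⟨k2, μ2, z2, h2, rfl⟩
    exact ⟨k1 + k2, Fin.append μ1 μ2, Fin.append z1 z2,
      fun l => Fin.addCases (fun a => by simpa using h1 a) (fun a => by simpa using h2 a) l,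
      by simp [Fin.sum_univ_add]⟩
  choose k μ z hμ hz using hrep
  have hrel : ∑ x : Σ i, Fin (k i), (algebraMap O A (o x.1) * μ x.1 x.2) • z x.1 x.2 = 0 := by
    rw [Fintype.sum_sigma]
    have := congr_arg j h0
    simp only [map_sum, map_smul, map_zero, hz, Finset.smul_sum] at this
    rw [← this]
    refine Finset.sum_congr rfl fun i _ => Finset.sum_congr rfl fun l _ => ?_
    rw [mul_smul, algebraMap_smul]
  obtain ⟨m, α, w, hw, hα⟩ := Module.Flat.isTrivialRelation_of_sum_smul_eq_zero hrel
  choose a cw hcw using exists_den_fin h j hjden w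
  have hmem : ∀ i l, (∑ p : Fin (k i), μ i p * α ⟨i, p⟩ l) * a l ∈ maximalIdeal A := fun i l =>
    Ideal.mul_mem_right _ _ (Ideal.sum_mem _ fun p _ => Ideal.mul_mem_right _ _ (hμ i p))
  choose b hb using fun i l => h.max_mem _ (hmem i l)
  refine ⟨m, b, cw, fun i => hj ?_, fun l => h.inj ?_⟩
  · rw [hz, map_sum]
    calc ∑ p, μ i p • z i p = ∑ p, ∑ l, (μ i p * α ⟨i, p⟩ l * a l) • j (cw l) := by
          refine Finset.sum_congr rfl fun p _ => ?_
          rw [show z i p = ∑ l, α ⟨i, p⟩ l • w l from hw ⟨i, p⟩, Finset.smul_sum]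
          exact Finset.sum_congr rfl fun l _ => by rw [hcw l, smul_smul, smul_smul]
      _ = ∑ l, j (b i l • cw l) := by
          rw [Finset.sum_comm]
          refine Finset.sum_congr rfl fun l _ => ?_
          rw [map_smul, ← algebraMap_smul A (b i l), hb, Finset.sum_mul, Finset.sum_smul]
  · rw [map_sum, map_zero]
    have := congr_arg (· * a l) (hα l)
    simp only [zero_mul] at this
    rw [← this, Fintype.sum_sigma, Finset.sum_mul]
    refine Finset.sum_congr rfl fun i _ => ?_
    rw [map_mul, hb, Finset.sum_mul, Finset.sum_mul, Finset.mul_sum]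
    exact Finset.sum_congr rfl fun p _ => by ring

/-- residues of the relations of `o` -/
def relMod {n : ℕ} (π : O →+* V) (hsurj : Function.Surjective π) (o : Fin n → O) : Submodule V (Fin n → V) where
  carrier := {v | ∃ r : Fin n → O, ∑ i, o i * r i = 0 ∧ ∀ i, π (r i) = v i}
  zero_mem' := ⟨0, by simp, by simp⟩
  add_mem' := by
    rintro v w ⟨r, hr, hv⟩ ⟨r', hr', hw⟩
    exact ⟨r + r', by simp [mul_add, Finset.sum_add_distrib, hr, hr'], fun i => by simp [hv, hw]⟩
  smul_mem' := by
    rintro c v ⟨r, hr, hv⟩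
    obtain ⟨c', rfl⟩ := hsurj c
    exact ⟨c' • r, by simp [mul_left_comm _ c', ← Finset.mul_sum, hr], fun i => by simp [hv]⟩

theorem flat [Module.Flat A CA] : Module.Flat O C := by
  classical
  refine Module.Flat.iff_forall_isTrivialRelation.2 fun {n} {o} {c} h0 => ?_
  let W : Submodule V (Fin n → V) := relMod π h.surj o
  haveI : Module.IsTorsionFree V ((Fin n → V) ⧸ W) := by
    refine Module.isTorsionFree_iff_smul_eq_zero.2 fun t v htv => ?_
    obtain ⟨v, rfl⟩ := Submodule.Quotient.mk_surjective W v
    rw [← Submodule.Quotient.mk_smul, Submodule.Quotient.mk_eq_zero] at htv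
    refine or_iff_not_imp_left.2 fun ht => (Submodule.Quotient.mk_eq_zero _).2 ?_
    obtain ⟨r, hr, hrv⟩ := htv
    obtain ⟨t', rfl⟩ := h.surj t
    have hu : IsUnit (algebraMap O A t') := by
      by_contra hu
      exact ht ((h.ker t').2 ((mem_maximalIdeal _).2 hu))
    choose v' hv' using fun i => h.surj (v i)
    have hμ : ∀ i, ↑hu.unit⁻¹ * algebraMap O A (r i - t' * v' i) ∈ maximalIdeal A := fun i =>
      Ideal.mul_mem_left _ _ ((h.ker _).1 (by simp [hrv, hv']))
    choose e he using fun i => h.max_mem _ (hμ i)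
    have key : ∀ i, algebraMap O A t' * algebraMap O A (v' i + e i) = algebraMap O A (r i) := fun i => by
      rw [map_add, he, map_sub, map_mul, mul_add, ← mul_assoc, IsUnit.mul_val_inv, one_mul]; ring
    refine ⟨fun i => v' i + e i, h.inj (((map_zero (algebraMap O A)).symm ▸ hu.mul_right_eq_zero.1 ?_)), fun i => ?_⟩
    · rw [map_sum, Finset.mul_sum, ← map_zero (algebraMap O A), ← hr, map_sum]
      exact Finset.sum_congr rfl fun i _ => by rw [map_mul, mul_left_comm, key, map_mul]
    · rw [map_add, hv', (h.ker (e i)).2 (by rw [he]; exact hμ i), add_zero]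
  haveI : Module.Flat V ((Fin n → V) ⧸ W) := Module.Flat.flat_iff_torsion_eq_bot_of_isBezout.2
    (Submodule.isTorsionFree_iff_torsion_eq_bot.1 inferInstance)
  haveI : Module.Finite V ((Fin n → V) ⧸ W) := inferInstance
  haveI : Module.Free V ((Fin n → V) ⧸ W) := Module.free_of_flat_of_isLocalRing
  let bs := Module.Free.chooseBasis V ((Fin n → V) ⧸ W)
  haveI : Fintype (Module.Free.ChooseBasisIndex V ((Fin n → V) ⧸ W)) := inferInstance
  let q : (Fin n → V) →ₗ[V] (Module.Free.ChooseBasisIndex V ((Fin n → V) ⧸ W) → V) :=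
    bs.equivFun.toLinearMap.comp W.mkQ
  have hq : ∀ v, q v = 0 ↔ v ∈ W := fun v => by
    simp [q]
  choose s hs using fun l => Submodule.Quotient.mk_surjective W (bs l)
  choose S hS using fun l i => h.surj (s l i)
  choose Q hQ using fun l i => h.surj (q (Pi.single i 1) l)
  have hqsum : ∀ (v : Fin n → O) l, q (fun i => π (v i)) l = π (∑ i, Q l i * v i) := fun v l => by
    have e : (fun i => π (v i)) = ∑ i, π (v i) • (Pi.single i (1 : V) : Fin n → V) := by
      ext k; simp [Finset.sum_apply, Pi.single_apply]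
    rw [e, map_sum, Finset.sum_apply, map_sum]
    refine Finset.sum_congr rfl fun i _ => ?_
    rw [map_smul, Pi.smul_apply, smul_eq_mul, map_mul, hQ, mul_comm]
  -- the image of `c` in the free quotient vanishes modulo the maximal ideal
  have hqc : ∀ l, j (∑ i, Q l i • c i) ∈ maximalIdeal A • (⊤ : Submodule A CA) := fun l => by
    have hrel : ∑ i, algebraMap O A (o i) • j (c i) = 0 := by
      simp_rw [algebraMap_smul, ← map_smul, ← map_sum, h0, map_zero]
    obtain ⟨m, α, y, hy, hα⟩ := Module.Flat.isTrivialRelation_of_sum_smul_eq_zero hrel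
    obtain ⟨s', hs', hall⟩ := h.commonDen (Finset.univ : Finset (Fin n × Fin m)) (fun p => α p.1 p.2)
    choose β hβ using fun i p => hall (i, p) (Finset.mem_univ _)
    have key : algebraMap O A s' • j (∑ i, Q l i • c i) ∈ maximalIdeal A • (⊤ : Submodule A CA) := by
      have e : algebraMap O A s' • j (∑ i, Q l i • c i) =
          ∑ p, algebraMap O A (∑ i, Q l i * β i p) • y p := by
        simp_rw [map_sum, map_smul, ← algebraMap_smul A (R := O), hy, Finset.smul_sum, smul_smul,
          Finset.sum_smul]
        rw [Finset.sum_comm]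
        refine Finset.sum_congr rfl fun p _ => Finset.sum_congr rfl fun i _ => ?_
        rw [map_mul, ← hβ i p]; ring_nf
      rw [e]
      refine Submodule.sum_mem _ fun p _ => Submodule.smul_mem_smul ?_ Submodule.mem_top
      rw [← h.ker, ← hqsum (fun i => β i p) l]
      refine congr_fun ((hq _).2 ⟨fun i => β i p, h.inj ?_, fun _ => rfl⟩) l
      rw [map_sum, map_zero]
      simp_rw [map_mul, ← hβ]
      rw [show (∑ i, algebraMap O A (o i) * (algebraMap O A s' * α i p)) =
        algebraMap O A s' * ∑ i, algebraMap O A (o i) * α i p from by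
          rw [Finset.mul_sum]; exact Finset.sum_congr rfl fun i _ => by ring, hα p, mul_zero]
    have := Submodule.smul_mem _ (↑hs'.unit⁻¹ : A) key
    rwa [smul_smul, IsUnit.val_inv_mul, one_smul] at this
  -- the columns of `1 - S Q`
  let P : Fin n → Fin n → O := fun k i => (if i = k then 1 else 0) - ∑ l, S l i * Q l k
  have hP : ∀ k, (fun i => π (P k i)) ∈ W := fun k => by
    rw [← hq]
    have e : (fun i => π (P k i)) = Pi.single k 1 - ∑ l, q (Pi.single k 1) l • s l := by
      ext i
      simp [P, Pi.single_apply, hS, hQ, mul_comm, apply_ite π]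
    rw [e, map_sub, map_sum]
    ext l
    simp only [Pi.sub_apply, Finset.sum_apply, Pi.zero_apply, map_smul, Pi.smul_apply]
    have hqs : ∀ l', q (s l') = Pi.single l' 1 := fun l' => by
      ext l''
      simp [q, hs, Finsupp.single_apply, Pi.single_apply, eq_comm]
    simp [hqs, Pi.single_apply]
  choose w hw0 hwP using hP
  let d : Fin n → C := fun i => c i - ∑ k, w k i • c k
  have hdm : ∀ i, j (d i) ∈ maximalIdeal A • (⊤ : Submodule A CA) := fun i => by
    have e : d i = ∑ l, S l i • (∑ k, Q l k • c k) + ∑ k, (P k i - w k i) • c k := by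
      simp only [d, P, sub_smul, ite_smul, one_smul, zero_smul, Finset.sum_smul, Finset.smul_sum, smul_smul,
        Finset.sum_sub_distrib]
      rw [Finset.sum_comm (γ := Fin n), Finset.sum_ite_eq, if_pos (Finset.mem_univ _)]
      abel
    rw [e, map_add, map_sum, map_sum]
    refine add_mem (Submodule.sum_mem _ fun l _ => ?_) (Submodule.sum_mem _ fun k _ => ?_)
    · rw [map_smul, ← algebraMap_smul A (S l i)]
      exact Submodule.smul_mem _ _ (hqc l)
    · rw [map_smul, ← algebraMap_smul A (P k i - w k i)]
      exact Submodule.smul_mem_smul ((h.ker _).1 (by rw [map_sub, hwP, sub_self])) Submodule.mem_top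
  have hd0 : ∑ i, o i • d i = 0 := by
    simp only [d, smul_sub, Finset.sum_sub_distrib, h0, zero_sub, neg_eq_zero, Finset.smul_sum, smul_smul]
    rw [Finset.sum_comm]
    refine Finset.sum_eq_zero fun k _ => ?_
    rw [← Finset.sum_smul, hw0, zero_smul]
  obtain ⟨m, a, y, hy, ha⟩ := trivial_of_max h j hj hjden o d hdm hd0
  refine ⟨n + m, fun i => Fin.append (fun k => w k i) (a i), Fin.append c y, fun i => ?_, fun p => ?_⟩
  · rw [Fin.sum_univ_add]
    simp only [Fin.append_left, Fin.append_right]
    rw [← hy i]; simp [d]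
  · refine Fin.addCases (fun k => ?_) (fun l => ?_) p
    · simpa using hw0 k
    · simpa using ha l

open MvPolynomial in
theorem finitePresentation [Module.Flat A CA] [Algebra.FinitePresentation A CA] [Algebra.FiniteType O C] :
    Algebra.FinitePresentation O C := by
  classical
  obtain ⟨m, f, hf⟩ := Algebra.FiniteType.iff_quotient_mvPolynomial''.1 (inferInstance : Algebra.FiniteType O C)
  let fA : MvPolynomial (Fin m) A →ₐ[A] CA := aeval fun i => j (f (X i))
  let mp : MvPolynomial (Fin m) O →+* MvPolynomial (Fin m) A := MvPolynomial.map (algebraMap O A)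
  have hfA : ∀ p, fA (mp p) = j (f p) := fun p => by
    have e : (fA.restrictScalars O).comp (MvPolynomial.mapAlgHom (Algebra.ofId O A)) = j.comp f := by
      ext i; simp [fA]
    exact AlgHom.congr_fun e p
  have hfAs : Function.Surjective fA := fun t => by
    obtain ⟨a, c, hc⟩ := exists_den_fin h j hjden (fun _ : Fin 1 => t) 0
    obtain ⟨p, rfl⟩ := hf c
    exact ⟨a • mp p, by rw [map_smul, hfA]; exact hc.symm⟩
  obtain ⟨G, hG⟩ := Algebra.FinitePresentation.ker_fG_of_surjective fA hfAs
  -- scale the generators into `O[X]`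
  have hscale : ∀ g ∈ RingHom.ker fA, ∃ g' : MvPolynomial (Fin m) O, g' ∈ RingHom.ker f ∧
      ∃ a : A, g = a • mp g' := by
    intro g hg
    obtain ⟨s, hs, hall⟩ := h.commonDen g.support (fun e => g.coeff e)
    have hex : ∀ e, ∃ o, algebraMap O A s * g.coeff e = algebraMap O A o := fun e => by
      by_cases he : e ∈ g.support
      · exact hall e he
      · exact ⟨0, by rw [MvPolynomial.notMem_support_iff.1 he, mul_zero, map_zero]⟩
    choose o ho using hex
    let g' : MvPolynomial (Fin m) O := ∑ e ∈ g.support, monomial e (o e)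
    have hg' : mp g' = algebraMap O A s • g := by
      conv_rhs => rw [g.as_sum, Finset.smul_sum]
      rw [show mp g' = ∑ e ∈ g.support, monomial e (algebraMap O A (o e)) from by
        simp only [g', mp, map_sum, map_monomial]]
      exact Finset.sum_congr rfl fun e _ => by rw [smul_monomial, smul_eq_mul, ho]
    refine ⟨g', hj ?_, ↑hs.unit⁻¹, ?_⟩
    · rw [map_zero, ← hfA, hg', map_smul, show fA g = 0 from hg, smul_zero]
    · rw [hg', smul_smul, IsUnit.val_inv_mul, one_smul]
  choose g' hg'J ga hga using fun g : G => hscale g.1 (hG ▸ Submodule.subset_span g.2)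
  -- the residual ideal
  let πp : MvPolynomial (Fin m) O →+* MvPolynomial (Fin m) V := MvPolynomial.map π
  have hπp : Function.Surjective πp := MvPolynomial.map_surjective π h.surj
  have hker : ∀ p, πp p = 0 → ∀ e, algebraMap O A (p.coeff e) ∈ maximalIdeal A := fun p hp e => by
    rw [← h.ker]
    have := congr_arg (MvPolynomial.coeff e) hp
    simpa [πp, coeff_map] using this
  let Jb : Ideal (MvPolynomial (Fin m) V) := (RingHom.ker f).map πp
  have hsat : ∀ (t : V) (v : MvPolynomial (Fin m) V), t ≠ 0 → t • v ∈ Jb → v ∈ Jb := by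
    intro t v ht htv
    obtain ⟨r, hr, hrv⟩ := (Ideal.mem_map_iff_of_surjective πp hπp).1 htv
    obtain ⟨t, rfl⟩ := h.surj t
    obtain ⟨v, rfl⟩ := hπp v
    have hu : IsUnit (algebraMap O A t) := by
      by_contra hu
      exact ht ((h.ker t).2 ((mem_maximalIdeal _).2 hu))
    have hz : πp (r - MvPolynomial.C t * v) = 0 := by
      rw [map_sub, hrv, smul_eq_C_mul, map_mul]
      simp [πp]
    choose e he using fun d => h.max_mem _ (Ideal.mul_mem_left _ (↑hu.unit⁻¹ : A) (hker _ hz d))
    have hcoef : ∀ d, (MvPolynomial.C t * (v + ∑ d ∈ (r - MvPolynomial.C t * v).support, monomial d (e d))).coeff d = r.coeff d := by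
      intro d
      apply h.inj
      rw [mul_add, coeff_add, coeff_C_mul, coeff_C_mul, coeff_sum, map_add, map_mul, map_mul]
      simp only [coeff_monomial, Finset.sum_ite_eq']
      by_cases hd : d ∈ (r - MvPolynomial.C t * v).support
      · rw [if_pos hd, he, ← mul_assoc, IsUnit.mul_val_inv, one_mul, coeff_sub, coeff_C_mul, map_sub, map_mul]
        ring
      · rw [if_neg hd, map_zero, mul_zero, add_zero]
        have := MvPolynomial.notMem_support_iff.1 hd
        rw [coeff_sub, coeff_C_mul, sub_eq_zero] at this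
        rw [this, map_mul]
    refine (Ideal.mem_map_iff_of_surjective πp hπp).2
      ⟨v + ∑ d ∈ (r - MvPolynomial.C t * v).support, monomial d (e d), ?_, ?_⟩
    · have e1 := congr_arg f (MvPolynomial.ext _ r hcoef)
      rw [show f r = 0 from hr, map_mul, show MvPolynomial.C t = algebraMap O (MvPolynomial (Fin m) O) t from rfl,
        AlgHom.commutes] at e1
      refine hj ?_
      rw [map_zero]
      have e2 := congr_arg j e1
      rw [map_mul, AlgHom.commutes, map_zero, IsScalarTower.algebraMap_apply O A CA] at e2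
      exact (hu.map (algebraMap A CA)).mul_right_eq_zero.1 e2
    · rw [map_add, map_sum, add_eq_left]
      refine Finset.sum_eq_zero fun d _ => ?_
      simp only [πp, map_monomial]
      rw [(h.ker (e d)).2 (by rw [he]; exact Ideal.mul_mem_left _ _ (hker _ hz d)), monomial_zero]
  have hJfg : Jb.FG := by
    let pr : (Fin 1 → MvPolynomial (Fin m) V) →ₗ[MvPolynomial (Fin m) V] MvPolynomial (Fin m) V :=
      LinearMap.proj 0
    have hfg : (Submodule.comap pr Jb).FG := NagataFP.fg_of_saturated _ fun c v hc hv => hsat c _ hc hv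
    have : Submodule.map pr (Submodule.comap pr Jb) = Jb :=
      Submodule.map_comap_eq_of_surjective (fun x => ⟨fun _ => x, rfl⟩) _
    rw [← this]; exact hfg.map _
  obtain ⟨Hs, hHs⟩ := hJfg
  have hlift : ∀ y : Hs, ∃ p ∈ RingHom.ker f, πp p = y.1 := fun y =>
    (Ideal.mem_map_iff_of_surjective πp hπp).1 (by
      change y.1 ∈ Jb
      rw [← hHs]
      exact Submodule.subset_span y.2)
  choose lift hlift1 hlift2 using hlift
  refine ⟨m, f, hf, ?_⟩
  refine ⟨Finset.univ.image g' ∪ Finset.univ.image lift, le_antisymm ?_ ?_⟩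
  · rw [Submodule.span_le]
    intro p hp
    simp only [Finset.coe_union, Finset.coe_image, Finset.coe_univ, Set.image_univ, Set.mem_union,
      Set.mem_range] at hp
    rcases hp with ⟨g, rfl⟩ | ⟨y, rfl⟩
    exacts [hg'J g, hlift1 y]
  · intro p hp
    set N := Submodule.span (MvPolynomial (Fin m) O)
      ((Finset.univ.image g' ∪ Finset.univ.image lift : Finset _) : Set (MvPolynomial (Fin m) O)) with hN
    have hgN : ∀ g, g' g ∈ N := fun g => Submodule.subset_span (by simp)
    have hlN : ∀ y, lift y ∈ N := fun y => Submodule.subset_span (by simp)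
    -- residual part
    obtain ⟨p1, hp1, hp1J, hp1e⟩ : ∃ p1, p1 ∈ N ∧ p1 ∈ RingHom.ker f ∧ πp p1 = πp p := by
      have hmem : πp p ∈ Submodule.span (MvPolynomial (Fin m) V) (Hs : Set _) := by
        have : πp p ∈ Jb := Ideal.mem_map_of_mem _ hp
        rwa [← hHs] at this
      revert hmem
      generalize πp p = y
      intro hmem
      induction hmem using Submodule.span_induction with
      | mem y hy => exact ⟨lift ⟨y, hy⟩, hlN _, hlift1 _, hlift2 _⟩
      | zero => exact ⟨0, zero_mem _, zero_mem _, map_zero _⟩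
      | add x y _ _ hx hy =>
        obtain ⟨a, a1, a2, a3⟩ := hx; obtain ⟨b, b1, b2, b3⟩ := hy
        exact ⟨a + b, add_mem a1 b1, add_mem a2 b2, by rw [map_add, a3, b3]⟩
      | smul r x _ hx =>
        obtain ⟨a, a1, a2, a3⟩ := hx
        obtain ⟨r', rfl⟩ := hπp r
        exact ⟨r' * a, Submodule.smul_mem _ r' a1, Ideal.mul_mem_left _ _ a2, by rw [map_mul, a3, smul_eq_mul]⟩
    suffices p - p1 ∈ N by have := add_mem this hp1; rwa [sub_add_cancel] at this
    set q := p - p1 with hq
    have hqm : ∀ e, algebraMap O A (q.coeff e) ∈ maximalIdeal A := hker q (by rw [hq, map_sub, hp1e, sub_self])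
    have hqJ : f q = 0 := by rw [hq, map_sub, show f p = 0 from hp, show f p1 = 0 from hp1J, sub_zero]
    have hrel : ∑ e : q.support, algebraMap O A (q.coeff e.1) • fA (monomial e.1 1) = 0 := by
      rw [← map_zero j, ← hqJ, ← hfA, Finset.sum_coe_sort q.support fun e => algebraMap O A (q.coeff e) • fA (monomial e 1),
        show mp q = ∑ e ∈ q.support, monomial e (algebraMap O A (q.coeff e)) from by
          conv_lhs => rw [q.as_sum]
          simp only [mp, map_sum, map_monomial], map_sum]
      refine Finset.sum_congr rfl fun e _ => ?_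
      rw [← map_smul, smul_monomial, smul_eq_mul, mul_one]
    obtain ⟨k, α, y, hy, hα⟩ := Module.Flat.isTrivialRelation_of_sum_smul_eq_zero hrel
    choose Y hY using fun l => hfAs (y l)
    have hqG : mp q ∈ (maximalIdeal A).map (MvPolynomial.C : A →+* MvPolynomial (Fin m) A) * RingHom.ker fA := by
      have e : mp q = ∑ e : q.support, MvPolynomial.C (algebraMap O A (q.coeff e.1)) * (monomial e.1 1 - ∑ l, α e l • Y l) := by
        have e0 : ∀ l, ∑ e : q.support, MvPolynomial.C (algebraMap O A (q.coeff e.1)) * (α e l • Y l) = 0 := fun l => by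
          simp only [smul_eq_C_mul, ← mul_assoc, ← map_mul]
          rw [← Finset.sum_mul, ← map_sum, show (∑ e : q.support, algebraMap O A (q.coeff e.1) * α e l) = 0 from hα l,
            map_zero, zero_mul]
        have e1 : ∑ e : q.support, MvPolynomial.C (algebraMap O A (q.coeff e.1)) * ∑ l, α e l • Y l = 0 := by
          simp only [Finset.mul_sum]
          rw [Finset.sum_comm]
          exact Finset.sum_eq_zero fun l _ => e0 l
        simp only [mul_sub, Finset.sum_sub_distrib, e1, sub_zero]
        rw [Finset.sum_coe_sort q.support fun e => MvPolynomial.C (algebraMap O A (q.coeff e)) * monomial e 1]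
        conv_lhs => rw [q.as_sum]
        simp only [mp, map_sum, map_monomial, C_mul_monomial, mul_one]
      rw [e]
      refine Ideal.sum_mem _ fun e _ => Ideal.mul_mem_mul (Ideal.mem_map_of_mem _ (hqm e.1)) ?_
      rw [RingHom.mem_ker, map_sub, show fA (monomial e.1 1) = ∑ l, α e l • y l from hy e, map_sum]
      simp [hY]
    -- elements of `m · ker fA` come from `N`
    have hall : ∀ x ∈ (maximalIdeal A).map (MvPolynomial.C : A →+* MvPolynomial (Fin m) A) * RingHom.ker fA,
        ∃ x' ∈ N, mp x' = x := by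
      intro x hx
      refine Submodule.mul_induction_on hx (fun μp hμ g hg => ?_) ?_
      · replace hg : g ∈ Submodule.span (MvPolynomial (Fin m) A) (G : Set (MvPolynomial (Fin m) A)) := by
          have : g ∈ RingHom.ker fA.toRingHom := hg
          rwa [← hG] at this
        induction hg using Submodule.span_induction generalizing μp with
        | mem g hg =>
          have hμc := MvPolynomial.mem_map_C_iff.1 hμ
          choose o ho using fun e => h.max_mem _ (Ideal.mul_mem_right (ga ⟨g, hg⟩) _ (hμc e))
          refine ⟨(∑ e ∈ μp.support, monomial e (o e)) * g' ⟨g, hg⟩, Submodule.smul_mem _ _ (hgN _), ?_⟩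
          conv_rhs => rw [show g = ga ⟨g, hg⟩ • mp (g' ⟨g, hg⟩) from hga ⟨g, hg⟩, μp.as_sum]
          rw [map_mul]
          simp only [mp, map_sum, map_monomial, ho, Finset.sum_mul, smul_eq_C_mul]
          refine Finset.sum_congr rfl fun e _ => ?_
          rw [← mul_assoc, mul_comm (monomial e (μp.coeff e)) (MvPolynomial.C (ga ⟨g, hg⟩)), C_mul_monomial,
            mul_comm (ga ⟨g, hg⟩)]
        | zero => exact ⟨0, zero_mem _, by rw [map_zero, mul_zero]⟩
        | add a b _ _ ha hb =>
          obtain ⟨a', a1, a2⟩ := ha μp hμ; obtain ⟨b', b1, b2⟩ := hb μp hμ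
          exact ⟨a' + b', add_mem a1 b1, by rw [map_add, a2, b2, mul_add]⟩
        | smul r a _ ha =>
          obtain ⟨a', a1, a2⟩ := ha (μp * r) (Ideal.mul_mem_right _ _ hμ)
          exact ⟨a', a1, by rw [a2, smul_eq_mul, mul_assoc]⟩
      · rintro _ _ ⟨a, a1, rfl⟩ ⟨b, b1, rfl⟩
        exact ⟨a + b, add_mem a1 b1, map_add _ _ _⟩
    obtain ⟨x', hx', hxe⟩ := hall _ hqG
    rwa [← MvPolynomial.map_injective (algebraMap O A) h.inj hxe]

end Groth.Agent.H3CAlg.SemiVal
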